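import Cfsg.Agent.H750.F43.UTwo
import Cfsg.Agent.H934.FF.UThree
import Cfsg.Agent.H874.F43.U4
import Cfsg.Agent.H701.F43.Cent
import Cfsg.Agent.H25.F43.Iso

/-!
# The elements of order a power of `3` of `F₄(3)` (S2465; helper750)

* `Mdl` : the data of `C(z) → Sp₆(3)`;
* `pr_three` : every element of `3`-power order is a product of two elements of order prime to `6`.
-/

set_option autoImplicit false

namespace Cfsg.Agent.H750.F43

open CoxeterSystem Cfsg.Agent.ChevalleyStructure.CoxeterGeom Cfsg.Agent.Tits.Roots Cfsg.Agent.Tits.Core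
  Cfsg.Agent.Nodes.Reps Cfsg.Agent.Nodes.BNOf Cfsg.Agent.Nodes.RGDLib Cfsg.Agent.Nodes.Bruhat
  Cfsg.Agent.Nodes.OppDec Cfsg.Agent.Nodes.LeviDec
open Cfsg Cfsg.Lie Cfsg.Agent.ChevalleyStructure Cfsg.Agent.ChevalleyStructure.CoxeterGeomTypes
  Cfsg.Agent.Nodes.RGDChev Cfsg.Agent.KFacts.RgdChevCoord Cfsg.Agent.H537.Pw
open Cfsg.Agent.H700.F43 Cfsg.Agent.H78.Pw
open Cfsg.Agent.ClassicalGeometry.SympBasic
open Module
open scoped Matrix

/-- `F₄(3)` -/
abbrev G3 := ↥(chevF4.group F3)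

/-- the elements of the highest root group -/
noncomputable abbrev xt (d : F3) : G3 := xc isType_F4 (vec chevF4 4 47) d

/-- the elements of the root group of the long node of `C₃` -/
noncomputable abbrev xa (c : F3) : G3 := xc isType_F4 (vec chevF4 4 25) c

/-- the long root element -/
noncomputable abbrev zz : G3 := xt 1

/-- the radical -/
abbrev VV : Subgroup G3 :=
  VJ CoxeterMatrix.F₄.toCoxeterSystem isType_F4.isCartan (XX chevF4 4 F3) ({0, 1, 2} : Set (Fin 4))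

/-- the centraliser of a long root element -/
noncomputable abbrev CZ : Subgroup G3 := Subgroup.centralizer ({zz} : Set G3)

/-- the data of `C(z) → Sp₆(3)` -/
structure Mdl where
  f : ↥CZ →* Sp
  ker : ∀ g : ↥CZ, f g = 1 ↔ (g : G3) ∈ VV
  surj : Function.Surjective f
  rel : ∀ A : Sp, ∃ X : V14 →ₗ[F3] V14, Rel A X
  fix : ∀ (g : ↥CZ) (X : V14 →ₗ[F3] V14), Rel (f g) X →
    Nat.card {x : VV // (g : G3) * x * (g : G3)⁻¹ * (x : G3)⁻¹ ∈ Subgroup.zpowers zz} ≤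
      3 * 3 ^ finrank F3 (LinearMap.ker (X - 1))
  step : ∀ g : ↥CZ, f g ≠ 1 → f g ≠ ng →
    ((∃ y ∈ VV, ∃ d : F3, d ≠ 0 ∧ y * (g : G3) * y⁻¹ = (g : G3) * xt d) ∨
      Nat.card {x : VV // (g : G3) * x * (g : G3)⁻¹ * (x : G3)⁻¹ ∈ Subgroup.zpowers zz} ≤ 3 ^ 9) → Pr 6 (g : G3)
  tv : ∃ (v : V6) (k : F3) (m : ↥CZ), v ≠ 0 ∧ k ≠ 0 ∧ (m : G3) = xa 1 ∧ f m = transv v k

theorem set_eq : ({0, 1, 2} : Set (Fin 4)) = {k | k ≠ 3} := by
  ext k
  fin_cases k <;> simp

theorem VV_eq : VV = Cfsg.Agent.H701.F43.Cent.VV F3 := by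
  unfold VV Cfsg.Agent.H701.F43.Cent.VV
  rw [set_eq]

/-- `U ≤ C(z)` -/
theorem U_le : RGD.Sup (XX chevF4 4 F3) (RGD.Pos CoxeterMatrix.F₄.toCoxeterSystem isType_F4.isCartan) ≤ CZ := by
  have h1 : RGD.Sup (XX chevF4 4 F3) (RGD.Pos CoxeterMatrix.F₄.toCoxeterSystem isType_F4.isCartan) ≤
      Cfsg.Agent.H701.F43.Cent.VV F3 ⊔ Cfsg.Agent.H701.F43.Cent.MM F3 := by
    refine RGD.Sup_le fun x hx => ?_
    have h3 : 0 ≤ x 3 := hx.2 3
    rcases h3.lt_or_eq with h4 | h4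
    · exact le_trans (RGD.le_Sup (Cfsg.Agent.H701.F43.Cent.mem_NotJ.2 ⟨hx.1, h4⟩)) le_sup_left
    · exact le_trans (RGD.le_Sup (Cfsg.Agent.H701.F43.Cent.mem_RootsJ.2 ⟨hx.1, h4.symm⟩)) le_sup_right
  intro g hg
  rw [Subgroup.mem_centralizer_singleton_iff]
  exact Cfsg.Agent.H701.F43.Cent.comm_theta (h1 hg) ((H25.F43.mem_XX isType_F4 (by decide +kernel)).2 ⟨1, rfl⟩)

theorem transv_add (v : V6) (c d : F3) : (transv v c : Sp) * transv v d = transv v (c + d) :=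
  Subtype.ext (sympTransvection_mul v c d)

theorem transv_zero (v : V6) : (transv v 0 : Sp) = 1 := Subtype.ext (sympTransvection_zero v)

theorem odd_of_pow {G : Type*} [Group G] {l : G} {k : ℕ} (h : l ^ 3 ^ k = 1) : Odd (orderOf l) :=
  Odd.of_dvd_nat (Odd.pow (by decide)) (orderOf_dvd_of_pow_eq_one h)

theorem ne_ng {l : Sp} (h1 : l ≠ 1) (hu : Odd (orderOf l)) : l ≠ ng := by
  rintro rfl
  have h2 : (ng : Sp) ^ 2 = 1 := by
    apply Subtype.ext
    change (-1 : Matrix (Fin 3 ⊕ Fin 3) (Fin 3 ⊕ Fin 3) F3) ^ 2 = 1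
    simp
  rcases (Nat.dvd_prime Nat.prime_two).1 (orderOf_dvd_of_pow_eq_one h2) with h6 | h6
  · exact h1 (orderOf_eq_one_iff.1 h6)
  · rw [h6] at hu
    exact absurd hu (by decide)

theorem three_cases {c c' : F3} (hc : c ≠ 0) (hc' : c' ≠ 0) : c = c' ∨ c = -c' := by
  revert c c'
  decide

theorem transv_ne_one {v : V6} (hv : v ≠ 0) {c : F3} (hc : c ≠ 0) : (transv v c : Sp) ≠ 1 := by
  intro h
  obtain ⟨x, hx⟩ : ∃ x, sympForm 3 F3 x v ≠ 0 := by
    by_contra hno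
    push Not at hno
    exact hv (eq_zero_of_forall_sympForm_left hno)
  have h1 : (transv v c : Sp).1 *ᵥ x = x := by
    rw [h]
    exact Matrix.one_mulVec x
  rw [coe_transv, sympTransvection_mulVec, add_eq_left] at h1
  rcases smul_eq_zero.1 h1 with h2 | h2
  · exact (mul_ne_zero hc hx) h2
  · exact hv h2

theorem mapc {A B : Type*} [Group A] [Group B] (f : A →* B) (b t : A) : f (b⁻¹ * t * b) = (f b)⁻¹ * f t * f b := by
  rw [map_mul, map_mul, map_inv]

theorem mapd {A B : Type*} [Group A] [Group B] (f : A →* B) (b t : A) : f (b * t * b⁻¹) = f b * f t * (f b)⁻¹ := by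
  rw [map_mul, map_mul, map_inv]

/-- **Block U**: the elements of `3`-power order -/
theorem pr_three (M : Mdl) (hs : IsSimpleGroup G3) {g : G3} {k : ℕ} (hg : g ^ 3 ^ k = 1) : Pr 6 g := by
  by_cases hg1 : g = 1
  · rw [hg1]
    exact Pr.one 6
  have : Fact (Nat.Prime 3) := ⟨Nat.prime_three⟩
  obtain ⟨x, hxU, hxV⟩ := H934.FF.exists_conj_notMem_C3 (r := 3) hs hg1 hg
  refine Pr.of_conj (x := x) ?_
  have hg' : (x * g * x⁻¹) ^ 3 ^ k = 1 := by rw [conj_pow, hg, mul_one, mul_inv_cancel]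
  generalize x * g * x⁻¹ = g1 at *
  clear hg hg1
  let u : ↥CZ := ⟨g1, U_le hxU⟩
  have hu : u ^ 3 ^ k = 1 := Subtype.ext hg'
  have hl1 : M.f u ≠ 1 := fun h => hxV ((M.ker u).1 h)
  have hlo : Odd (orderOf (M.f u)) := odd_of_pow (k := k) (by rw [← map_pow, hu, map_one])
  have hln := ne_ng hl1 hlo
  obtain ⟨X, hX⟩ := M.rel (M.f u)
  rcases (fix_le M.rel hl1 hlo hX).2 with h8 | ⟨h, c, hc, hconj⟩
  · refine M.step u hl1 hln (Or.inr ((M.fix u X hX).trans ?_))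
    calc 3 * 3 ^ finrank F3 (LinearMap.ker (X - 1)) ≤ 3 * 3 ^ 8 :=
          Nat.mul_le_mul_left _ (Nat.pow_le_pow_right (by norm_num) h8)
      _ = 3 ^ 9 := by norm_num
  · obtain ⟨y, rfl⟩ := M.surj h
    obtain ⟨v, c', m, hv, hc', hm, hfm⟩ := M.tv
    obtain ⟨B, hB⟩ := sp_transitive hv (w := eb (Sum.inl 0)) (by decide)
    obtain ⟨b, rfl⟩ := M.surj B
    -- an element of the root group with the same image
    obtain ⟨a, ha, m', hm', hfm'⟩ : ∃ a : F3, a ≠ 0 ∧ ∃ m' : ↥CZ, (m' : G3) = xa a ∧ M.f m' = transv v c := by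
      rcases three_cases hc hc' with rfl | rfl
      · exact ⟨1, one_ne_zero, m, hm, hfm⟩
      · have h1 : ((m⁻¹ : ↥CZ) : G3) ∈ XX chevF4 4 F3 (vec chevF4 4 25) := by
          rw [Subgroup.coe_inv, hm]
          exact inv_mem ((H25.F43.mem_XX isType_F4 (by decide +kernel)).2 ⟨1, rfl⟩)
        obtain ⟨a, ha⟩ := (H25.F43.mem_XX isType_F4 (by decide +kernel)).1 h1
        have h2 : M.f m⁻¹ = transv v (-c') := by
          rw [map_inv, hfm, inv_eq_iff_mul_eq_one, transv_add, add_neg_cancel, transv_zero]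
        refine ⟨a, ?_, m⁻¹, ha, h2⟩
        rintro rfl
        have h3 : (m : G3) = 1 := by
          have h4 : ((m⁻¹ : ↥CZ) : G3) = 1 := ha.trans (H162.GaussExc.xc_zero isType_F4 (by decide +kernel))
          rw [Subgroup.coe_inv] at h4
          exact inv_eq_one.1 h4
        rw [show m = 1 from Subtype.ext h3, map_one] at hfm
        exact transv_ne_one hv hc' hfm.symm
    have hbv : M.f b * M.f m' * (M.f b)⁻¹ = transv (eb (Sum.inl 0)) c := by
      rw [hfm', conj_transv, hB]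
    let w : ↥CZ := b⁻¹ * (y * u * y⁻¹) * b
    have hw : M.f w = M.f m' := by
      refine (mapc M.f b _).trans ?_
      rw [mapd M.f y u, hconj, ← hbv]
      group
    have hker : M.f (m'⁻¹ * w) = 1 := by rw [map_mul, map_inv, hw, inv_mul_cancel]
    have hv' := (M.ker _).1 hker
    have hwe : (w : G3) = xa a * ((m'⁻¹ * w : ↥CZ) : G3) := by
      rw [← hm', ← Subgroup.coe_mul, mul_inv_cancel_left]
    have hfin : Pr 6 (w : G3) → Pr 6 g1 := by
      intro h1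
      have h2 : (w : G3) = ((b⁻¹ * y : ↥CZ) : G3) * g1 * ((b⁻¹ * y : ↥CZ) : G3)⁻¹ := by
        change ((b : G3)⁻¹ * ((y : G3) * g1 * (y : G3)⁻¹) * (b : G3)) = ((b : G3)⁻¹ * (y : G3)) * g1 * ((b : G3)⁻¹ * (y : G3))⁻¹
        group
      rw [h2] at h1
      exact h1.of_conj
    have hwf : M.f w = ((M.f b)⁻¹ * M.f y) * M.f u * ((M.f b)⁻¹ * M.f y)⁻¹ := by
      refine (mapc M.f b _).trans ?_
      rw [mapd M.f y u]
      group
    have hw1 : M.f w ≠ 1 := by
      rw [hwf]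
      intro h1
      exact hl1 (conj_eq_one_iff.1 h1)
    have hwo : Odd (orderOf (M.f w)) := by
      refine odd_of_pow (k := k) ?_
      rw [hwf, conj_pow, ← map_pow, hu, map_one, mul_one, mul_inv_cancel]
    rcases H934.FF.uThree (K := F3) (by decide) hv' ha with ⟨y', hy', d, hd, he⟩ | ⟨h', d, he⟩
    · refine hfin (M.step w hw1 (ne_ng hw1 hwo) (Or.inl ⟨y', hy', d, hd, ?_⟩))
      rw [hwe]
      exact he
    · refine hfin ?_
      rw [hwe]
      refine Pr.of_conj (x := h') ?_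
      rw [he]
      exact H874.F43.pr_U4 (by simp) a d

end Cfsg.Agent.H750.F43
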