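import Cfsg.Agent.H700.F43.Mod
import Cfsg.Agent.ClassicalGeometry.SympSiegel

/-!
# Fixed points of a unipotent element of `Sp₆(3)` on `V₁₄` (S2465, F₄(3); helper750)

* `exists_wall` : an element `l ≠ 1` of odd order has a vector `w` with `f(w, l w) ≠ 0`;
* `fix_le` : `dim C(l) ≤ 9` on `V₁₄` and, if `l` is not a transvection, `dim C(l) ≤ 8`.
-/

set_option autoImplicit false

namespace Cfsg.Agent.H750.F43

open Cfsg Matrix Module
open Cfsg.Agent.H700.F43
open Cfsg.Agent.ClassicalGeometry.SympBasic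

local notation "f" => sympForm 3 F3

/-- basis vectors -/
abbrev eb (a : Fin 3 ⊕ Fin 3) : V6 := Pi.single a 1

theorem fm (l : Sp) (u v : V6) : f (l.1 *ᵥ u) (l.1 *ᵥ v) = f u v := sympForm_mulVec l.2 u v

theorem ext_mv {g h : Sp} (H : ∀ v : V6, g.1 *ᵥ v = h.1 *ᵥ v) : g = h := by
  apply Subtype.ext
  rw [← Matrix.mulVec_injective.eq_iff]
  funext v
  exact H v

theorem mul_mv (g h : Sp) (v : V6) : (g * h).1 *ᵥ v = g.1 *ᵥ (h.1 *ᵥ v) := by
  rw [Matrix.mulVec_mulVec]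
  rfl

theorem one_mv (v : V6) : (1 : Sp).1 *ᵥ v = v := Matrix.one_mulVec v

theorem inv_mv (g : Sp) (v : V6) : (g⁻¹).1 *ᵥ (g.1 *ᵥ v) = v := by
  rw [← mul_mv, inv_mul_cancel, one_mv]

theorem mv_inv (g : Sp) (v : V6) : g.1 *ᵥ ((g⁻¹).1 *ᵥ v) = v := by
  rw [← mul_mv, mul_inv_cancel, one_mv]

/-- an element of odd order, `≠ 1`, has a vector `w` with `f(w, l w) ≠ 0` -/
theorem exists_wall {l : Sp} (h1 : l ≠ 1) (hu : Odd (orderOf l)) : ∃ w : V6, f w (l.1 *ᵥ w) ≠ 0 := by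
  by_contra hno
  push Not at hno
  have h2 : ∀ x y : V6, f (l.1 *ᵥ x) y = f x (l.1 *ᵥ y) := by
    intro x y
    have h3 := hno (x + y)
    rw [Matrix.mulVec_add, sympForm_add_left, sympForm_add_right, sympForm_add_right, hno x, hno y, zero_add,
      add_zero] at h3
    rw [sympForm_swap (l.1 *ᵥ x) y]
    linear_combination -h3
  have h4 : l ^ 2 = 1 := by
    apply ext_mv
    intro v
    rw [one_mv]
    apply eq_of_forall_sympForm_left
    intro x
    rw [pow_two, mul_mv]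
    have h5 := h2 x (l.1 *ᵥ v)
    rw [fm] at h5
    exact h5.symm
  have h5 : orderOf l ∣ 2 := orderOf_dvd_of_pow_eq_one h4
  rcases (Nat.dvd_prime Nat.prime_two).1 h5 with h6 | h6
  · exact h1 (orderOf_eq_one_iff.1 h6)
  · rw [h6] at hu
    exact absurd hu (by decide)

/-! ### the map `ww` at `κ f₀` -/

/-- basis vectors of `V₁₄` -/
abbrev E (i : Fin 14) : V14 := Pi.single i 1

theorem E13 : E 13 = ww (eb (Sum.inl 0)) (eb (Sum.inl 1)) (eb (Sum.inl 2)) := by decide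
theorem E1 : E 1 = ww (eb (Sum.inl 0)) (eb (Sum.inr 1)) (eb (Sum.inr 2)) := by decide
theorem E8 : E 8 = ww (eb (Sum.inl 0)) (eb (Sum.inr 1)) (eb (Sum.inl 2)) := by decide
theorem E9 : E 9 = ww (eb (Sum.inl 0)) (eb (Sum.inl 1)) (eb (Sum.inr 2)) := by decide
theorem E10 : E 10 = ww (eb (Sum.inl 0)) (eb (Sum.inr 1)) (eb (Sum.inl 1)) := by decide
theorem E5 : E 5 = ww (eb (Sum.inl 0)) (-eb (Sum.inr 0)) (eb (Sum.inr 1)) := by decide
theorem E6 : E 6 = ww (eb (Sum.inl 0)) (eb (Sum.inr 0)) (eb (Sum.inr 2)) := by decide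
theorem E11 : E 11 = ww (eb (Sum.inl 0)) (eb (Sum.inr 0)) (eb (Sum.inl 1)) := by decide
theorem E12 : E 12 = ww (eb (Sum.inl 0)) (-eb (Sum.inr 0)) (eb (Sum.inl 2)) := by decide

section

variable (κ : F3) (a b : V6)

theorem w_1 : ww (κ • eb (Sum.inr 0)) a b 1 = 0 := by simp [ww, cX, cY, d3]
theorem w_8 : ww (κ • eb (Sum.inr 0)) a b 8 = 0 := by simp [ww, cX, cY, d3]
theorem w_9 : ww (κ • eb (Sum.inr 0)) a b 9 = 0 := by simp [ww, cX, cY, d3]
theorem w_10 : ww (κ • eb (Sum.inr 0)) a b 10 = 0 := by simp [ww, cX, cY, d3]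
theorem w_13 : ww (κ • eb (Sum.inr 0)) a b 13 = 0 := by simp [ww, cX, cY, d3]

theorem w_0 : ww (κ • eb (Sum.inr 0)) a b 0 =
    κ * (a (Sum.inr 1) * b (Sum.inr 2) - a (Sum.inr 2) * b (Sum.inr 1)) := by
  simp [ww, cX, cY, d3]

theorem w_7 : ww (κ • eb (Sum.inr 0)) a b 7 =
    κ * (a (Sum.inl 1) * b (Sum.inl 2) - a (Sum.inl 2) * b (Sum.inl 1)) := by
  simp [ww, cX, cY, d3]

theorem w_5 : ww (κ • eb (Sum.inr 0)) a b 5 =
    -(κ * (a (Sum.inr 1) * b (Sum.inl 0) - a (Sum.inl 0) * b (Sum.inr 1))) := by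
  simp [ww, cX, cY, d3]

theorem w_6 : ww (κ • eb (Sum.inr 0)) a b 6 =
    κ * (a (Sum.inr 2) * b (Sum.inl 0) - a (Sum.inl 0) * b (Sum.inr 2)) := by
  simp [ww, cX, cY, d3]

theorem w_11 : ww (κ • eb (Sum.inr 0)) a b 11 =
    -(κ * (a (Sum.inl 0) * b (Sum.inl 1) - a (Sum.inl 1) * b (Sum.inl 0))) := by
  simp [ww, cX, cY, d3]

theorem w_12 : ww (κ • eb (Sum.inr 0)) a b 12 =
    -(κ * (a (Sum.inl 2) * b (Sum.inl 0) - a (Sum.inl 0) * b (Sum.inl 2))) := by
  simp [ww, cX, cY, d3]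

end

/-- a subspace without vectors supported in `S` -/
theorem finrank_le (S : Finset (Fin 14)) (W : Submodule F3 V14)
    (h : ∀ φ ∈ W, (∀ j, j ∉ S → φ j = 0) → φ = 0) : finrank F3 W + S.card ≤ 14 := by
  let π : W →ₗ[F3] ({j : Fin 14 // j ∉ S} → F3) :=
    (LinearMap.funLeft F3 F3 (Subtype.val : {j : Fin 14 // j ∉ S} → Fin 14)).comp W.subtype
  have hinj : Function.Injective π := by
    rw [← LinearMap.ker_eq_bot, LinearMap.ker_eq_bot']
    intro φ hφ
    apply Subtype.ext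
    refine h φ.1 φ.2 fun j hj => ?_
    exact congrFun hφ ⟨j, hj⟩
  have h1 := LinearMap.finrank_le_finrank_of_injective hinj
  rw [finrank_fintype_fun_eq_card, Fintype.card_subtype_compl, Fintype.card_fin] at h1
  have h2 : S.card ≤ 14 := by
    have := Finset.card_le_univ S
    rwa [Fintype.card_fin] at this
  have h3 : Fintype.card {x // x ∈ S} = S.card := Fintype.card_coe S
  rw [h3] at h1
  omega

theorem no_neg {l : Sp} (hu : Odd (orderOf l)) {v : V6} (hv : v ≠ 0) (h : l.1 *ᵥ v = -v) : False := by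
  have h1 : ∀ n : ℕ, (l ^ n).1 *ᵥ v = (-1 : F3) ^ n • v := by
    intro n
    induction n with
    | zero => rw [pow_zero, pow_zero, one_mv, one_smul]
    | succ n ih =>
      rw [pow_succ', mul_mv, ih, Matrix.mulVec_smul, h, pow_succ, smul_neg, mul_neg, mul_one, neg_smul]
  have h2 := h1 (orderOf l)
  rw [pow_orderOf_eq_one, one_mv, hu.neg_one_pow, neg_smul, one_smul] at h2
  apply hv
  funext i
  have h3 := congrFun h2 i
  have h4 : ∀ x : F3, x = -x → x = 0 := by decide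
  exact h4 _ h3

/-- the standard position: the first steps -/
theorem std_one {l : Sp} {κ : F3} (hl : l.1 *ᵥ eb (Sum.inl 0) = κ • eb (Sum.inr 0))
    {X : V14 →ₗ[F3] V14} (hX : Rel l X) :
    ∀ i ∈ ({1, 8, 9, 10, 13, 5, 6, 11, 12} : Finset (Fin 14)), ∀ j ∈ ({1, 8, 9, 10, 13} : Finset (Fin 14)),
      X (E i) j = 0 := by
  have key : ∀ (i : Fin 14) (y z : V6), E i = ww (eb (Sum.inl 0)) y z →
      ∀ j ∈ ({1, 8, 9, 10, 13} : Finset (Fin 14)), X (E i) j = 0 := by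
    intro i y z h j hj
    rw [h, hX, hl]
    simp only [Finset.mem_insert, Finset.mem_singleton] at hj
    rcases hj with rfl | rfl | rfl | rfl | rfl
    · exact w_1 _ _ _
    · exact w_8 _ _ _
    · exact w_9 _ _ _
    · exact w_10 _ _ _
    · exact w_13 _ _ _
  intro i hi
  simp only [Finset.mem_insert, Finset.mem_singleton] at hi
  rcases hi with rfl | rfl | rfl | rfl | rfl | rfl | rfl | rfl | rfl
  · exact key _ _ _ E1
  · exact key _ _ _ E8
  · exact key _ _ _ E9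
  · exact key _ _ _ E10
  · exact key _ _ _ E13
  · exact key _ _ _ E5
  · exact key _ _ _ E6
  · exact key _ _ _ E11
  · exact key _ _ _ E12

/-- a fixed vector supported in `U ∪ V₄` is supported in `V₄` -/
theorem std_two {l : Sp} {κ : F3} (hl : l.1 *ᵥ eb (Sum.inl 0) = κ • eb (Sum.inr 0))
    {X : V14 →ₗ[F3] V14} (hX : Rel l X) {φ : V14} (h1 : X φ = φ)
    (h2 : ∀ j, j ∉ ({1, 8, 9, 10, 13, 5, 6, 11, 12} : Finset (Fin 14)) → φ j = 0) :
    ∀ j ∈ ({1, 8, 9, 10, 13} : Finset (Fin 14)), φ j = 0 := by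
  intro j hj
  have h3 : φ = ∑ i, φ i • E i := by
    funext k
    simp [Finset.sum_apply, Pi.single_apply]
  have h4 : X φ j = ∑ i, φ i * X (E i) j := by
    conv_lhs => rw [h3]
    rw [map_sum, Finset.sum_apply]
    refine Finset.sum_congr rfl fun i _ => ?_
    rw [map_smul]
    rfl
  rw [← h1, h4]
  refine Finset.sum_eq_zero fun i _ => ?_
  by_cases hi : i ∈ ({1, 8, 9, 10, 13, 5, 6, 11, 12} : Finset (Fin 14))
  · rw [std_one hl hX i hi j hj, mul_zero]
  · rw [h2 i hi, zero_mul]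

theorem f_inr (i : Fin 3) (v : V6) : f v (eb (Sum.inr i)) = -v (Sum.inl i) := sympForm_single_inr_right i v

theorem f_inl (i : Fin 3) (v : V6) : f v (eb (Sum.inl i)) = v (Sum.inr i) := sympForm_single_inl_right i v

theorem f_eq (u v : V6) : f u v = (u (Sum.inr 0) * v (Sum.inl 0) - u (Sum.inl 0) * v (Sum.inr 0)) +
    (u (Sum.inr 1) * v (Sum.inl 1) - u (Sum.inl 1) * v (Sum.inr 1)) +
    (u (Sum.inr 2) * v (Sum.inl 2) - u (Sum.inl 2) * v (Sum.inr 2)) := by
  rw [sympForm_eq_sum, Fin.sum_univ_three]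

/-- the images of `e₁, e₂, f₁, f₂` have no component along `e₀` -/
theorem zero_of_perp {l : Sp} {κ : F3} (hκ : κ ≠ 0) (hl : l.1 *ᵥ eb (Sum.inl 0) = κ • eb (Sum.inr 0)) {z : V6}
    (hz : z (Sum.inr 0) = 0) : (l.1 *ᵥ z) (Sum.inl 0) = 0 := by
  have h1 := fm l z (eb (Sum.inl 0))
  rw [hl, sympForm_smul_right, f_inr, f_inl, hz, mul_neg, neg_eq_zero, mul_eq_zero] at h1
  exact h1.resolve_left hκ

theorem sq_one {κ : F3} (hκ : κ ≠ 0) : κ * κ = 1 := by
  revert κ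
  decide

theorem p_inl {l : Sp} {κ : F3} (hκ : κ ≠ 0) (hl : l.1 *ᵥ eb (Sum.inl 0) = κ • eb (Sum.inr 0)) :
    (l.1 *ᵥ eb (Sum.inr 0)) (Sum.inl 0) = -κ := by
  have h1 := fm l (eb (Sum.inr 0)) (eb (Sum.inl 0))
  rw [hl, sympForm_smul_right, f_inr, f_inl] at h1
  have h2 : (eb (Sum.inr 0) : V6) (Sum.inr 0) = 1 := by decide
  rw [h2] at h1
  linear_combination (-κ) * h1 - ((l.1 *ᵥ eb (Sum.inr 0)) (Sum.inl 0)) * sq_one hκ

/-- the coordinates of `q` -/
theorem extr {κ : F3} {P q : V6} {i : Fin 14} {δ : F3} (h : ww (κ • eb (Sum.inr 0)) P q = E i)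
    (hz : q (Sum.inl 0) = 0) (hP : κ * P (Sum.inl 0) = δ) :
    E i 5 = δ * q (Sum.inr 1) ∧ E i 6 = -(δ * q (Sum.inr 2)) ∧ E i 11 = -(δ * q (Sum.inl 1)) ∧
      E i 12 = δ * q (Sum.inl 2) ∧
      E i 0 = κ * (P (Sum.inr 1) * q (Sum.inr 2) - P (Sum.inr 2) * q (Sum.inr 1)) ∧
      E i 7 = κ * (P (Sum.inl 1) * q (Sum.inl 2) - P (Sum.inl 2) * q (Sum.inl 1)) := by
  rw [← h, w_5, w_6, w_11, w_12, w_0, w_7, hz, ← hP]
  refine ⟨by ring, by ring, by ring, by ring, rfl, rfl⟩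

theorem vec_ext {u v : V6} (h0 : u (Sum.inl 0) = v (Sum.inl 0)) (h1 : u (Sum.inl 1) = v (Sum.inl 1))
    (h2 : u (Sum.inl 2) = v (Sum.inl 2)) (k0 : u (Sum.inr 0) = v (Sum.inr 0)) (k1 : u (Sum.inr 1) = v (Sum.inr 1))
    (k2 : u (Sum.inr 2) = v (Sum.inr 2)) : u = v := by
  funext i
  rcases i with i | i <;> fin_cases i
  · exact h0
  · exact h1
  · exact h2
  · exact k0
  · exact k1
  · exact k2

/-- the standard position: all the vectors of `V₄` are fixed -/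
theorem std_three {l : Sp} {κ : F3} (hκ : κ ≠ 0) (hl : l.1 *ᵥ eb (Sum.inl 0) = κ • eb (Sum.inr 0))
    {X : V14 →ₗ[F3] V14} (hX : Rel l X) (h : ∀ i ∈ ({5, 6, 11, 12} : Finset (Fin 14)), X (E i) = E i) :
    (∀ j, j ≠ 0 → l.1 *ᵥ eb (Sum.inl j) = eb (Sum.inl j)) ∧ (∀ j, j ≠ 0 → l.1 *ᵥ eb (Sum.inr j) = eb (Sum.inr j)) ∧
      ∃ b : F3, l.1 *ᵥ eb (Sum.inr 0) = -κ • eb (Sum.inl 0) + b • eb (Sum.inr 0) := by
  have hp := p_inl hκ hl
  have hk := sq_one hκ
  set p := l.1 *ᵥ eb (Sum.inr 0) with hpd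
  have e5 : ww (κ • eb (Sum.inr 0)) (-p) (l.1 *ᵥ eb (Sum.inr 1)) = E 5 := by
    have h1 := h 5 (by decide)
    rw [E5, hX, hl, Matrix.mulVec_neg, ← hpd, ← E5] at h1
    exact h1
  have e6 : ww (κ • eb (Sum.inr 0)) p (l.1 *ᵥ eb (Sum.inr 2)) = E 6 := by
    have h1 := h 6 (by decide)
    rw [E6, hX, hl, ← hpd, ← E6] at h1
    exact h1
  have e11 : ww (κ • eb (Sum.inr 0)) p (l.1 *ᵥ eb (Sum.inl 1)) = E 11 := by
    have h1 := h 11 (by decide)
    rw [E11, hX, hl, ← hpd, ← E11] at h1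
    exact h1
  have e12 : ww (κ • eb (Sum.inr 0)) (-p) (l.1 *ᵥ eb (Sum.inl 2)) = E 12 := by
    have h1 := h 12 (by decide)
    rw [E12, hX, hl, Matrix.mulVec_neg, ← hpd, ← E12] at h1
    exact h1
  have z5 : (l.1 *ᵥ eb (Sum.inr 1)) (Sum.inl 0) = 0 := zero_of_perp hκ hl (by decide)
  have z6 : (l.1 *ᵥ eb (Sum.inr 2)) (Sum.inl 0) = 0 := zero_of_perp hκ hl (by decide)
  have z11 : (l.1 *ᵥ eb (Sum.inl 1)) (Sum.inl 0) = 0 := zero_of_perp hκ hl (by decide)
  have z12 : (l.1 *ᵥ eb (Sum.inl 2)) (Sum.inl 0) = 0 := zero_of_perp hκ hl (by decide)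
  have o5 : f (l.1 *ᵥ eb (Sum.inr 1)) p = 0 := by rw [hpd, fm]; decide
  have o6 : f (l.1 *ᵥ eb (Sum.inr 2)) p = 0 := by rw [hpd, fm]; decide
  have o11 : f (l.1 *ᵥ eb (Sum.inl 1)) p = 0 := by rw [hpd, fm]; decide
  have o12 : f (l.1 *ᵥ eb (Sum.inl 2)) p = 0 := by rw [hpd, fm]; decide
  generalize hq5 : l.1 *ᵥ eb (Sum.inr 1) = q5 at *
  generalize hq6 : l.1 *ᵥ eb (Sum.inr 2) = q6 at *
  generalize hq11 : l.1 *ᵥ eb (Sum.inl 1) = q11 at *
  generalize hq12 : l.1 *ᵥ eb (Sum.inl 2) = q12 at *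
  obtain ⟨a1, a2, a3, a4, a5, a6⟩ := extr (δ := 1) e5 z5 (by rw [Pi.neg_apply, hp, neg_neg, hk])
  obtain ⟨b1, b2, b3, b4, b5, b6⟩ := extr (δ := -1) e6 z6 (by rw [hp, mul_neg, hk])
  obtain ⟨c1, c2, c3, c4, c5, c6⟩ := extr (δ := -1) e11 z11 (by rw [hp, mul_neg, hk])
  obtain ⟨d1, d2, d3, d4, d5, d6⟩ := extr (δ := 1) e12 z12 (by rw [Pi.neg_apply, hp, neg_neg, hk])
  clear e5 e6 e11 e12
  rw [show E 5 5 = 1 by decide, one_mul] at a1
  rw [show E 5 6 = 0 by decide, one_mul, zero_eq_neg] at a2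
  rw [show E 5 11 = 0 by decide, one_mul, zero_eq_neg] at a3
  rw [show E 5 12 = 0 by decide, one_mul] at a4
  rw [show E 5 0 = 0 by decide, Pi.neg_apply, Pi.neg_apply, a2, ← a1, mul_zero, mul_one, zero_sub, neg_neg] at a5
  rw [show E 6 5 = 0 by decide, neg_one_mul, zero_eq_neg] at b1
  rw [show E 6 6 = 1 by decide, neg_one_mul, neg_neg] at b2
  rw [show E 6 11 = 0 by decide, neg_one_mul, neg_neg] at b3
  rw [show E 6 12 = 0 by decide, neg_one_mul, zero_eq_neg] at b4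
  rw [show E 6 0 = 0 by decide, b1, ← b2, mul_zero, mul_one, sub_zero] at b5
  rw [show E 11 5 = 0 by decide, neg_one_mul, zero_eq_neg] at c1
  rw [show E 11 6 = 0 by decide, neg_one_mul, neg_neg] at c2
  rw [show E 11 11 = 1 by decide, neg_one_mul, neg_neg] at c3
  rw [show E 11 12 = 0 by decide, neg_one_mul, zero_eq_neg] at c4
  rw [show E 11 7 = 0 by decide, c4, ← c3, mul_zero, mul_one, zero_sub, mul_neg, zero_eq_neg] at c6
  rw [show E 12 5 = 0 by decide, one_mul] at d1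
  rw [show E 12 6 = 0 by decide, one_mul, zero_eq_neg] at d2
  rw [show E 12 11 = 0 by decide, one_mul, zero_eq_neg] at d3
  rw [show E 12 12 = 1 by decide, one_mul] at d4
  rw [show E 12 7 = 0 by decide, Pi.neg_apply, Pi.neg_apply, d3, ← d4, mul_zero, mul_one, sub_zero, mul_neg,
    zero_eq_neg] at d6
  have r2 : p (Sum.inr 2) = 0 := (mul_eq_zero.1 a5.symm).resolve_left hκ
  have r1 : p (Sum.inr 1) = 0 := (mul_eq_zero.1 b5.symm).resolve_left hκ
  have l2 : p (Sum.inl 2) = 0 := (mul_eq_zero.1 c6).resolve_left hκ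
  have l1 : p (Sum.inl 1) = 0 := (mul_eq_zero.1 d6).resolve_left hκ
  have key : ∀ q : V6, f q p = 0 → q (Sum.inl 0) = 0 → q (Sum.inr 0) = 0 := by
    intro q h1 h2
    rw [f_eq, r1, r2, l1, l2, h2, hp] at h1
    have h3 : q (Sum.inr 0) * κ = 0 := by linear_combination -h1
    exact (mul_eq_zero.1 h3).resolve_right hκ
  have k5 := key q5 o5 z5
  have k6 := key q6 o6 z6
  have k11 := key q11 o11 z11
  have k12 := key q12 o12 z12
  refine ⟨fun j hj => ?_, fun j hj => ?_, p (Sum.inr 0), ?_⟩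
  · have hj' : j = 1 ∨ j = 2 := by
      revert j
      decide
    rcases hj' with rfl | rfl
    · rw [hq11]
      refine vec_ext ?_ ?_ ?_ ?_ ?_ ?_
      · rw [z11]; decide
      · rw [← c3]; decide
      · rw [c4]; decide
      · rw [k11]; decide
      · rw [c1]; decide
      · rw [← c2]; decide
    · rw [hq12]
      refine vec_ext ?_ ?_ ?_ ?_ ?_ ?_
      · rw [z12]; decide
      · rw [d3]; decide
      · rw [← d4]; decide
      · rw [k12]; decide
      · rw [← d1]; decide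
      · rw [d2]; decide
  · have hj' : j = 1 ∨ j = 2 := by
      revert j
      decide
    rcases hj' with rfl | rfl
    · rw [hq5]
      refine vec_ext ?_ ?_ ?_ ?_ ?_ ?_
      · rw [z5]; decide
      · rw [a3]; decide
      · rw [← a4]; decide
      · rw [k5]; decide
      · rw [← a1]; decide
      · rw [a2]; decide
    · rw [hq6]
      refine vec_ext ?_ ?_ ?_ ?_ ?_ ?_
      · rw [z6]; decide
      · rw [← b3]; decide
      · rw [b4]; decide
      · rw [k6]; decide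
      · rw [b1]; decide
      · rw [← b2]; decide
  · refine vec_ext ?_ ?_ ?_ ?_ ?_ ?_
    · rw [hp]; simp
    · rw [l1]; simp
    · rw [l2]; simp
    · simp
    · rw [r1]; simp
    · rw [r2]; simp

/-- the standard position -/
theorem std {l : Sp} (hu : Odd (orderOf l)) {κ : F3} (hκ : κ ≠ 0)
    (hl : l.1 *ᵥ eb (Sum.inl 0) = κ • eb (Sum.inr 0)) {X : V14 →ₗ[F3] V14} (hX : Rel l X) :
    finrank F3 (LinearMap.ker (X - 1)) ≤ 9 ∧ (finrank F3 (LinearMap.ker (X - 1)) ≤ 8 ∨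
      l = transv (eb (Sum.inl 0) - κ • eb (Sum.inr 0)) (-κ)) := by
  have hmem : ∀ φ, φ ∈ LinearMap.ker (X - 1) ↔ X φ = φ := fun φ => by
    rw [LinearMap.mem_ker, LinearMap.sub_apply, sub_eq_zero]
    rfl
  have h9 := finrank_le {1, 8, 9, 10, 13} (LinearMap.ker (X - 1)) (by
    intro φ hφ hs
    have h1 := std_two hl hX ((hmem φ).1 hφ) (fun j hj => hs j (fun h => hj (by
      simp only [Finset.mem_insert, Finset.mem_singleton] at h ⊢
      tauto)))
    funext j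
    by_cases hj : j ∈ ({1, 8, 9, 10, 13} : Finset (Fin 14))
    · exact h1 j hj
    · exact hs j hj)
  have c9 : ({1, 8, 9, 10, 13} : Finset (Fin 14)).card = 5 := by decide
  rw [c9] at h9
  refine ⟨by omega, ?_⟩
  by_cases hall : ∀ i ∈ ({5, 6, 11, 12} : Finset (Fin 14)), X (E i) = E i
  · right
    obtain ⟨h1, h2, b, h3⟩ := std_three hκ hl hX hall
    have hk := sq_one hκ
    have hpow : ∀ m : ℕ, Odd (orderOf (l ^ m)) := fun m => Odd.of_dvd_nat hu (orderOf_pow_dvd m)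
    have s2 : (l ^ 2).1 *ᵥ eb (Sum.inl 0) = -eb (Sum.inl 0) + (κ * b) • eb (Sum.inr 0) := by
      rw [pow_two, mul_mv, hl, Matrix.mulVec_smul, h3, smul_add, smul_smul, smul_smul, mul_neg, hk, neg_smul, one_smul]
    have hb : b = 2 := by
      have hb' : b = 0 ∨ b = 1 ∨ b = 2 := by
        clear h3 s2
        revert b
        decide
      rcases hb' with rfl | rfl | rfl
      · exfalso
        refine no_neg (hpow 2) (v := eb (Sum.inl 0)) (by decide) ?_
        rw [s2, mul_zero, zero_smul, add_zero]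
      · exfalso
        refine no_neg (hpow 3) (v := eb (Sum.inl 0)) (by decide) ?_
        rw [pow_succ', mul_mv, s2, Matrix.mulVec_add, Matrix.mulVec_neg, hl, Matrix.mulVec_smul, h3, mul_one, smul_add,
          smul_smul, one_smul, mul_neg, hk, neg_smul, one_smul]
        abel
      · rfl
    subst hb
    apply Subtype.ext
    apply Matrix.ext_of_mulVec_single
    intro a
    change l.1 *ᵥ eb a = (transv (eb (Sum.inl 0) - κ • eb (Sum.inr 0)) (-κ)).1 *ᵥ eb a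
    rw [coe_transv, sympTransvection_mulVec, sympForm_sub_right, sympForm_smul_right, f_inl, f_inr]
    rcases a with j | j
    · by_cases hj : j = 0
      · subst hj
        rw [hl]
        have e1 : (eb (Sum.inl 0) : V6) (Sum.inr 0) = 0 := by decide
        have e2 : (eb (Sum.inl 0) : V6) (Sum.inl 0) = 1 := by decide
        rw [e1, e2, zero_sub, mul_neg_one, neg_neg, neg_mul, hk, neg_smul, one_smul]
        abel
      · rw [h1 j hj]
        have e1 : (eb (Sum.inl j) : V6) (Sum.inr 0) = 0 := by simp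
        have e2 : (eb (Sum.inl j) : V6) (Sum.inl 0) = 0 := by simp [Ne.symm hj]
        rw [e1, e2, neg_zero, mul_zero, sub_zero, mul_zero, zero_smul, add_zero]
    · by_cases hj : j = 0
      · subst hj
        rw [h3]
        have e1 : (eb (Sum.inr 0) : V6) (Sum.inr 0) = 1 := by decide
        have e2 : (eb (Sum.inr 0) : V6) (Sum.inl 0) = 0 := by decide
        rw [e1, e2, neg_zero, mul_zero, sub_zero, mul_one, smul_sub, smul_smul, neg_mul, hk, two_smul, neg_smul,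
          neg_smul, one_smul]
        abel
      · rw [h2 j hj]
        have e1 : (eb (Sum.inr j) : V6) (Sum.inr 0) = 0 := by simp [Ne.symm hj]
        have e2 : (eb (Sum.inr j) : V6) (Sum.inl 0) = 0 := by simp
        rw [e1, e2, neg_zero, mul_zero, sub_zero, mul_zero, zero_smul, add_zero]
  · left
    push Not at hall
    obtain ⟨i, hi, hne⟩ := hall
    have h8 := finrank_le (insert i {1, 8, 9, 10, 13}) (LinearMap.ker (X - 1)) (by
      intro φ hφ hs
      have h0 := (hmem φ).1 hφ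
      have h1 := std_two hl hX h0 (fun j hj => hs j (fun h => hj (by
        simp only [Finset.mem_insert, Finset.mem_singleton] at h hi ⊢
        rcases h with rfl | h
        · tauto
        · tauto)))
      have h2 : φ = φ i • E i := by
        funext j
        by_cases hj : j = i
        · subst hj
          simp
        · have h3 : φ j = 0 := by
            by_cases hj' : j ∈ ({1, 8, 9, 10, 13} : Finset (Fin 14))
            · exact h1 j hj'
            · exact hs j (fun h => (Finset.mem_insert.1 h).elim hj hj')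
          rw [h3]
          simp [hj]
      by_contra h4
      apply hne
      have h5 : φ i ≠ 0 := fun h6 => h4 (by rw [h2, h6, zero_smul])
      rw [h2, map_smul] at h0
      exact smul_right_injective _ h5 (by simpa using h0))
    have c10 : (insert i ({1, 8, 9, 10, 13} : Finset (Fin 14))).card = 6 := by
      clear hne h9 h8
      revert i
      decide
    rw [c10] at h8
    omega

/-- the form of two vectors can be moved to the standard position -/
theorem exists_std {w w' : V6} (h : f w w' ≠ 0) : ∃ (g : Sp) (κ : F3), κ ≠ 0 ∧ g.1 *ᵥ eb (Sum.inl 0) = w ∧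
    g.1 *ᵥ (κ • eb (Sum.inr 0)) = w' := by
  have hk := sq_one h
  obtain ⟨A, -, h1, h2⟩ := exists_transvGroup_hyperbolic (m := 3) (F := F3) (u := eb (Sum.inl 0))
    (v := -eb (Sum.inr 0)) (u' := w) (v' := f w w' • w') (by decide) (by
      have h3 := sympForm_smul_right (m := 3) (F := F3) (f w w') w w'
      exact h3.trans hk)
  refine ⟨A, -f w w', neg_ne_zero.2 h, h1, ?_⟩
  have h4 : A.1 *ᵥ (-f w w' • eb (Sum.inr 0)) = f w w' • (A.1 *ᵥ (-eb (Sum.inr 0))) := by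
    rw [← Matrix.mulVec_smul, smul_neg, neg_smul]
  rw [h4]
  have h5 : f w w' • (f w w' • w') = w' := by rw [smul_smul, hk, one_smul]
  exact (congrArg (fun x => f w w' • x) h2).trans h5

/-- the vectors `ww x y z` span -/
theorem exists_ww (i : Fin 14) : ∃ x y z : V6, E i = ww x y z := by
  have h0 : E 0 = ww (eb (Sum.inr 0)) (eb (Sum.inr 1)) (eb (Sum.inr 2)) := by decide
  have h2 : E 2 = ww (eb (Sum.inr 2)) (eb (Sum.inr 0)) (eb (Sum.inl 1)) := by decide
  have h3 : E 3 = ww (eb (Sum.inr 0)) (eb (Sum.inr 1)) (eb (Sum.inl 2)) := by decide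
  have h4 : E 4 = ww (eb (Sum.inr 1)) (eb (Sum.inr 0)) (eb (Sum.inl 1)) := by decide
  have h7 : E 7 = ww (eb (Sum.inl 1)) (eb (Sum.inl 2)) (eb (Sum.inr 0)) := by decide
  fin_cases i
  · exact ⟨_, _, _, h0⟩
  · exact ⟨_, _, _, E1⟩
  · exact ⟨_, _, _, h2⟩
  · exact ⟨_, _, _, h3⟩
  · exact ⟨_, _, _, h4⟩
  · exact ⟨_, _, _, E5⟩
  · exact ⟨_, _, _, E6⟩
  · exact ⟨_, _, _, h7⟩
  · exact ⟨_, _, _, E8⟩
  · exact ⟨_, _, _, E9⟩
  · exact ⟨_, _, _, E10⟩
  · exact ⟨_, _, _, E11⟩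
  · exact ⟨_, _, _, E12⟩
  · exact ⟨_, _, _, E13⟩

/-- `X` is determined by `A` -/
theorem rel_unique {A : Sp} {X Y : V14 →ₗ[F3] V14} (hX : Rel A X) (hY : Rel A Y) : X = Y := by
  refine LinearMap.pi_ext' fun i => LinearMap.ext_ring ?_
  obtain ⟨x, y, z, h⟩ := exists_ww i
  change X (E i) = Y (E i)
  rw [h, hX, hY]

theorem sp_transitive {v w : V6} (hv : v ≠ 0) (hw : w ≠ 0) : ∃ A : Sp, A.1 *ᵥ v = w := by
  obtain ⟨A, -, h⟩ := exists_transvGroup_mulVec_eq (m := 3) (F := F3) hv hw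
  exact ⟨A, h⟩

theorem conj_transv (A : Sp) (v : V6) (c : F3) : A * transv v c * A⁻¹ = transv (A.1 *ᵥ v) c := by
  rw [mul_inv_eq_iff_eq_mul]
  exact Subtype.ext (mul_sympTransvection A.2 v c)

/-- the fixed points of a conjugate -/
theorem finrank_conj {g g' l : Sp} (hg : g' * g = 1) {X Y Z : V14 →ₗ[F3] V14} (hX : Rel l X) (hY : Rel g Y)
    (hZ : Rel g' Z) :
    finrank F3 (LinearMap.ker (Z * X * Y - 1)) = finrank F3 (LinearMap.ker (X - 1)) := by
  have h1 : Z * Y = 1 := rel_unique (hg ▸ hZ.mul hY) Rel.one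
  have h2 : Y * Z = 1 := rel_unique ((mul_eq_one_comm.1 hg) ▸ hY.mul hZ) Rel.one
  let e : V14 ≃ₗ[F3] V14 := LinearEquiv.ofLinearMap Y Z h2 h1
  have h3 : LinearMap.ker (X - 1) = (LinearMap.ker (Z * X * Y - 1)).map (e : V14 →ₗ[F3] V14) := by
    ext φ
    rw [Submodule.mem_map, LinearMap.mem_ker, LinearMap.sub_apply, sub_eq_zero]
    constructor
    · intro h
      refine ⟨Z φ, ?_, LinearMap.congr_fun h2 φ⟩
      rw [LinearMap.mem_ker, LinearMap.sub_apply, sub_eq_zero]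
      have h4 : Y (Z φ) = φ := LinearMap.congr_fun h2 φ
      change Z (X (Y (Z φ))) = Z φ
      rw [h4, h]
      rfl
    · rintro ⟨ψ, h4, rfl⟩
      rw [LinearMap.mem_ker, LinearMap.sub_apply, sub_eq_zero] at h4
      have h5 : Y (Z (X (Y ψ))) = X (Y ψ) := LinearMap.congr_fun h2 _
      have h6 : Z (X (Y ψ)) = ψ := h4
      change X (Y ψ) = Y ψ
      rw [← h5, h6]
  rw [h3]
  exact (LinearEquiv.finrank_map_eq e _).symm

/-- **Fixed points of unipotent elements on `V₁₄`.** -/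
theorem fix_le (hR : ∀ A : Sp, ∃ X : V14 →ₗ[F3] V14, Rel A X) {l : Sp} (h1 : l ≠ 1) (hu : Odd (orderOf l))
    {X : V14 →ₗ[F3] V14} (hX : Rel l X) :
    finrank F3 (LinearMap.ker (X - 1)) ≤ 9 ∧ (finrank F3 (LinearMap.ker (X - 1)) ≤ 8 ∨
      ∃ (h : Sp) (c : F3), c ≠ 0 ∧ h * l * h⁻¹ = transv (eb (Sum.inl 0)) c) := by
  obtain ⟨w, hw⟩ := exists_wall h1 hu
  obtain ⟨g, κ, hκ, hg1, hg2⟩ := exists_std hw
  obtain ⟨Y, hY⟩ := hR g
  obtain ⟨Z, hZ⟩ := hR g⁻¹
  have hl : (g⁻¹ * l * g).1 *ᵥ eb (Sum.inl 0) = κ • eb (Sum.inr 0) := by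
    rw [mul_mv, mul_mv, hg1, ← hg2, inv_mv]
  have hodd : Odd (orderOf (g⁻¹ * l * g)) := by
    have h2 : g⁻¹ * l * g = (MulAut.conj g⁻¹).toMonoidHom l := by
      change _ = g⁻¹ * l * g⁻¹⁻¹
      rw [inv_inv]
    rw [h2]
    exact Odd.of_dvd_nat hu (orderOf_map_dvd _ _)
  have h3 := std hodd hκ hl ((hZ.mul hX).mul hY)
  rw [finrank_conj (inv_mul_cancel g) hX hY hZ] at h3
  refine ⟨h3.1, h3.2.imp id fun h4 => ?_⟩
  have h5 : eb (Sum.inl 0) - κ • eb (Sum.inr 0) ≠ (0 : V6) := by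
    intro h6
    have h7 := congrFun h6 (Sum.inl 0)
    simp at h7
  obtain ⟨B, hB⟩ := sp_transitive h5 (w := eb (Sum.inl 0)) (by decide)
  refine ⟨B * g⁻¹, -κ, neg_ne_zero.2 hκ, ?_⟩
  have h6 : B * g⁻¹ * l * (B * g⁻¹)⁻¹ = B * (g⁻¹ * l * g) * B⁻¹ := by group
  rw [h6, h4, conj_transv, hB]

end Cfsg.Agent.H750.F43
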